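import Mathlib.CategoryTheory.Sites.Abelian
import Mathlib.CategoryTheory.Sites.ConstantSheaf
import Mathlib.CategoryTheory.Sites.PreservesSheafification
import Mathlib.CategoryTheory.Sites.LeftExact
import Mathlib.Algebra.Category.ModuleCat.Abelian
import Mathlib.Algebra.Category.ModuleCat.Colimits
import Mathlib.Algebra.Category.ModuleCat.Limits
import Mathlib.Algebra.Category.ModuleCat.FilteredColimits
import Mathlib.Algebra.Homology.ShortComplex.ModuleCat
import Mathlib.LinearAlgebra.TensorProduct.RightExactness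
import Mathlib.RingTheory.Finiteness.Small
import Mathlib.Algebra.Module.FinitePresentation
import Mathlib.RingTheory.Flat.Tensor

/-!
# Sections of constant sheaves of modules are an exact linear functor
-/

set_option backward.isDefEq.respectTransparency false

universe u

open CategoryTheory CategoryTheory.Limits Opposite TensorProduct

noncomputable section

namespace Groth.Agent.ConstShMod

variable {C : Type u} [SmallCategory C] (J : GrothendieckTopology C) {Λ : Type u} [CommRing Λ]

/-- The constant presheaf on a module. -/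
abbrev constP (A : ModuleCat.{u} Λ) : Cᵒᵖ ⥤ ModuleCat.{u} Λ := (Functor.const Cᵒᵖ).obj A

theorem exists_natural_section {A B : ModuleCat.{u} Λ} (g : A ⟶ B) (hg : Function.Surjective g) :
    ∃ τ : ((constantSheaf J (ModuleCat.{u} Λ)).obj B).obj ⋙ forget (ModuleCat.{u} Λ) ⟶
        ((constantSheaf J (ModuleCat.{u} Λ)).obj A).obj ⋙ forget (ModuleCat.{u} Λ),
      τ ≫ Functor.whiskerRight ((constantSheaf J (ModuleCat.{u} Λ)).map g).hom (forget (ModuleCat.{u} Λ)) = 𝟙 _ := by
  let G := forget (ModuleCat.{u} Λ)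
  let σ : constP (C := C) B ⋙ G ⟶ constP A ⋙ G :=
    { app := fun _ => TypeCat.ofHom (Function.surjInv hg)
      naturality := fun X Y f => rfl }
  have hA : Presheaf.IsSheaf J (sheafify J (constP A) ⋙ G) :=
    GrothendieckTopology.HasSheafCompose.isSheaf _ ((presheafToSheaf J (ModuleCat.{u} Λ)).obj (constP A)).property
  have hB : Presheaf.IsSheaf J (sheafify J (constP B) ⋙ G) :=
    GrothendieckTopology.HasSheafCompose.isSheaf _ ((presheafToSheaf J (ModuleCat.{u} Λ)).obj (constP B)).property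
  refine ⟨(sheafifyComposeIso J G (constP B)).inv ≫ sheafifyLift J (σ ≫ Functor.whiskerRight (toSheafify J (constP A)) G) hA, ?_⟩
  refine (Category.assoc _ _ _).trans ((Iso.inv_comp_eq _).2 (Eq.trans ?_ (Category.comp_id _).symm))
  refine sheafify_hom_ext J _ _ hB ?_
  refine (Category.assoc _ _ _).symm.trans (Eq.trans ?_ (sheafComposeIso_hom_fac J G (constP B)).symm)
  refine (congrArg (fun t => t ≫ Functor.whiskerRight (sheafifyMap J ((Functor.const Cᵒᵖ).map g)) G)
    (toSheafify_sheafifyLift J _ hA)).trans ((Category.assoc _ _ _).trans ?_)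
  refine Eq.trans (congrArg (fun t => σ ≫ t) ((Functor.whiskerRight_comp _ _ G).symm.trans
    ((congrArg (fun t => Functor.whiskerRight t G) (toSheafify_naturality J ((Functor.const Cᵒᵖ).map g)).symm).trans
      (Functor.whiskerRight_comp _ _ G)))) ?_
  rw [← Category.assoc]
  refine (congrArg (fun t => t ≫ Functor.whiskerRight (toSheafify J (constP B)) G) ?_).trans (Category.id_comp _)
  ext X x
  exact Function.surjInv_eq hg x

variable (U : C)

/-- The sections over `U` of the constant sheaf on a module. -/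
abbrev Γc (M : ModuleCat.{u} Λ) : ModuleCat.{u} Λ := ((constantSheaf J (ModuleCat.{u} Λ)).obj M).obj.obj (op U)

/-- The map on sections induced by a linear map. -/
abbrev Γm {A B : Type u} [AddCommGroup A] [Module Λ A] [AddCommGroup B] [Module Λ B] (f : A →ₗ[Λ] B) :
    Γc J U (ModuleCat.of Λ A) →ₗ[Λ] Γc J U (ModuleCat.of Λ B) :=
  (((constantSheaf J (ModuleCat.{u} Λ)).map (ModuleCat.ofHom f)).hom.app (op U)).hom

variable {A B D : Type u} [AddCommGroup A] [Module Λ A] [AddCommGroup B] [Module Λ B] [AddCommGroup D] [Module Λ D]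

theorem Γm_surjective (f : A →ₗ[Λ] B) (hf : Function.Surjective f) : Function.Surjective (Γm J U f) := by
  obtain ⟨τ, hτ⟩ := exists_natural_section J (ModuleCat.ofHom f) hf
  exact fun y => ⟨τ.app (op U) y, ConcreteCategory.congr_hom (NatTrans.congr_app hτ (op U)) y⟩

theorem Γm_comp (g : B →ₗ[Λ] D) (f : A →ₗ[Λ] B) (x) : Γm J U (g ∘ₗ f) x = Γm J U g (Γm J U f x) :=
  congr($((constantSheaf J (ModuleCat.{u} Λ)).map_comp (ModuleCat.ofHom f) (ModuleCat.ofHom g)).hom.app (op U) x)

theorem Γm_id (x) : Γm J U (LinearMap.id : A →ₗ[Λ] A) x = x :=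
  congr($((constantSheaf J (ModuleCat.{u} Λ)).map_id (ModuleCat.of Λ A)).hom.app (op U) x)

theorem Γm_smul_id (r : Λ) (x) : Γm J U (r • (LinearMap.id : A →ₗ[Λ] A)) x = r • x := by
  let P := constP (C := C) (ModuleCat.of Λ A)
  let m : sheafify J P ⟶ sheafify J P := sheafifyMap J ((Functor.const Cᵒᵖ).map (ModuleCat.ofHom (r • (LinearMap.id : A →ₗ[Λ] A))))
  let k : sheafify J P ⟶ sheafify J P :=
    { app := fun W => ModuleCat.ofHom (r • (LinearMap.id : (sheafify J P).obj W →ₗ[Λ] (sheafify J P).obj W))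
      naturality := fun W W' f => by
        ext z
        exact (map_smul ((sheafify J P).map f).hom r z).symm }
  have h : m = k := by
    refine sheafify_hom_ext J _ _ ((presheafToSheaf J (ModuleCat.{u} Λ)).obj P).property ?_
    refine (toSheafify_naturality J _).symm.trans ?_
    ext W z
    exact map_smul ((toSheafify J P).app W).hom r z
  exact congr(($h).app (op U) x)

theorem Γm_smul (r : Λ) (f : A →ₗ[Λ] B) (x) : Γm J U (r • f) x = r • Γm J U f x := by
  rw [show r • f = (r • (LinearMap.id : B →ₗ[Λ] B)) ∘ₗ f from rfl, Γm_comp, Γm_smul_id]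

theorem Γm_add (f g : A →ₗ[Λ] B) (x) : Γm J U (f + g) x = Γm J U f x + Γm J U g x :=
  congr($((constantSheaf J (ModuleCat.{u} Λ)).map_add (f := ModuleCat.ofHom f) (g := ModuleCat.ofHom g)).hom.app (op U) x)

theorem Γm_zero (x) : Γm J U (0 : A →ₗ[Λ] B) x = 0 := by
  have := Γm_smul J U (0 : Λ) (0 : A →ₗ[Λ] B) x
  rwa [zero_smul, zero_smul] at this

theorem Γm_sum {ι : Type*} (s : Finset ι) (f : ι → A →ₗ[Λ] B) (x) :
    Γm J U (∑ i ∈ s, f i) x = ∑ i ∈ s, Γm J U (f i) x := by
  classical
  induction s using Finset.induction_on with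
  | empty => simp [Γm_zero]
  | insert a s ha ih => rw [Finset.sum_insert ha, Finset.sum_insert ha, Γm_add, ih]

theorem Γm_injective (f : A →ₗ[Λ] B) (hf : Function.Injective f) : Function.Injective (Γm J U f) := by
  haveI : PreservesFiniteLimits (constantSheaf J (ModuleCat.{u} Λ)) := comp_preservesFiniteLimits _ _
  let G := constantSheaf J (ModuleCat.{u} Λ) ⋙ sheafToPresheaf J _ ⋙ (evaluation Cᵒᵖ _).obj (op U)
  haveI : PreservesFiniteLimits G := comp_preservesFiniteLimits _ _
  haveI : Mono (ModuleCat.ofHom f) := (ModuleCat.mono_iff_injective _).mpr hf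
  exact (ModuleCat.mono_iff_injective (G.map (ModuleCat.ofHom f))).mp inferInstance

theorem Γm_exact {f : A →ₗ[Λ] B} {g : B →ₗ[Λ] D} (h : Function.Exact f g) (x) (hx : Γm J U g x = 0) :
    ∃ y, Γm J U f y = x := by
  haveI : PreservesFiniteLimits (constantSheaf J (ModuleCat.{u} Λ)) := comp_preservesFiniteLimits _ _
  let G := constantSheaf J (ModuleCat.{u} Λ) ⋙ sheafToPresheaf J _ ⋙ (evaluation Cᵒᵖ _).obj (op U)
  haveI : PreservesFiniteLimits G := comp_preservesFiniteLimits _ _
  haveI : G.PreservesZeroMorphisms := ⟨fun X Y => by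
    apply ModuleCat.hom_ext; ext z
    exact Γm_zero J U (A := X) (B := Y) z⟩
  let S := ShortComplex.mk (ModuleCat.ofHom g.ker.subtype) (ModuleCat.ofHom g) (by ext z; exact z.2)
  have hS : S.Exact := (ShortComplex.moduleCat_exact_iff _).mpr fun z hz => ⟨⟨z, hz⟩, rfl⟩
  haveI : Mono S.f := (ModuleCat.mono_iff_injective _).mpr Subtype.val_injective
  obtain ⟨z, hz⟩ := (ShortComplex.moduleCat_exact_iff _).mp
    (hS.map_of_mono_of_preservesKernel G inferInstance inferInstance) x hx
  let f' : A →ₗ[Λ] g.ker := f.codRestrict g.ker fun a => h.apply_apply_eq_zero a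
  obtain ⟨y, rfl⟩ := Γm_surjective J U f' (fun k => by
    obtain ⟨a, ha⟩ := (h k.1).mp k.2
    exact ⟨a, Subtype.ext ha⟩) z
  exact ⟨y, (Γm_comp J U g.ker.subtype f' y).trans hz⟩

section comparison

variable (M : Type u) [AddCommGroup M] [Module Λ M] (Q : Type u) [AddCommGroup Q] [Module Λ Q]

/-- The comparison map. -/
def θ : Γc J U (ModuleCat.of Λ M) ⊗[Λ] Q →ₗ[Λ] Γc J U (ModuleCat.of Λ (M ⊗[Λ] Q)) :=
  TensorProduct.lift (LinearMap.mk₂ Λ (fun s q => Γm J U ((TensorProduct.mk Λ M Q).flip q) s)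
    (fun s s' q => map_add _ s s') (fun r s q => map_smul _ r s)
    (fun s q q' => by rw [map_add, Γm_add]) (fun r s q => by rw [map_smul, Γm_smul]))

theorem θ_tmul (s : Γc J U (ModuleCat.of Λ M)) (q : Q) :
    θ J U M Q (s ⊗ₜ q) = Γm J U ((TensorProduct.mk Λ M Q).flip q) s := rfl

variable {Q} {Q' : Type u} [AddCommGroup Q'] [Module Λ Q']

theorem θ_natural (h : Q →ₗ[Λ] Q') (z) :
    θ J U M Q' (h.lTensor _ z) = Γm J U (h.lTensor M) (θ J U M Q z) := by
  induction z using TensorProduct.induction_on with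
  | zero => simp only [map_zero]
  | tmul s q =>
    rw [LinearMap.lTensor_tmul, θ_tmul, θ_tmul, ← Γm_comp]
    rfl
  | add a b ha hb => simp only [map_add, ha, hb]

theorem θ_bijective_free (n : ℕ) : Function.Bijective (θ (Λ := Λ) J U M (Fin n → Λ)) := by
  let e : Fin n → (Fin n → Λ) := fun k => Pi.single k 1
  let p : Fin n → M ⊗[Λ] (Fin n → Λ) →ₗ[Λ] M := fun k =>
    (TensorProduct.rid Λ M).toLinearMap ∘ₗ (LinearMap.proj k).lTensor M
  have hp : ∑ k, (TensorProduct.mk Λ M (Fin n → Λ)).flip (e k) ∘ₗ p k = LinearMap.id := by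
    refine TensorProduct.ext' fun m q => ?_
    simp only [p, LinearMap.coe_sum, Finset.sum_apply, LinearMap.comp_apply, LinearMap.lTensor_tmul,
      LinearEquiv.coe_coe, TensorProduct.rid_tmul, LinearMap.flip_apply, TensorProduct.mk_apply, LinearMap.id_apply,
      TensorProduct.smul_tmul, ← TensorProduct.tmul_sum, LinearMap.proj_apply]
    exact congrArg (m ⊗ₜ[Λ] ·) (pi_eq_sum_univ' q).symm
  refine Function.bijective_iff_has_inverse.mpr
    ⟨fun y => ∑ k, (Γm J U (p k) y) ⊗ₜ[Λ] e k, fun z => ?_, fun y => ?_⟩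
  · induction z using TensorProduct.induction_on with
    | zero => simp
    | tmul s q =>
      have h1 : ∀ k, p k ∘ₗ (TensorProduct.mk Λ M (Fin n → Λ)).flip q = q k • LinearMap.id := fun k => by
        ext m; simp [p]
      simp only [θ_tmul, ← Γm_comp, h1, Γm_smul, Γm_id, TensorProduct.smul_tmul, ← TensorProduct.tmul_sum]
      exact congrArg (s ⊗ₜ[Λ] ·) (pi_eq_sum_univ' q).symm
    | add a b ha hb =>
      simp only [map_add, TensorProduct.add_tmul, Finset.sum_add_distrib]
      exact congrArg₂ (· + ·) ha hb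
  · show θ J U M _ (∑ k, (Γm J U (p k) y) ⊗ₜ[Λ] e k) = y
    simp only [map_sum, θ_tmul, ← Γm_comp, ← Γm_sum]
    rw [hp, Γm_id]

theorem θ_bijective (Q : Type u) [AddCommGroup Q] [Module Λ Q] [Module.FinitePresentation Λ Q] :
    Function.Bijective (θ (Λ := Λ) J U M Q) := by
  obtain ⟨n, m, g, f, hg, hex⟩ := Module.FinitePresentation.exists_fin' Λ Q
  have hg' : Function.Surjective (g.lTensor M) := LinearMap.lTensor_surjective _ hg
  refine ⟨(injective_iff_map_eq_zero _).mpr fun z hz => ?_, fun y => ?_⟩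
  · obtain ⟨z', rfl⟩ := LinearMap.lTensor_surjective (Γc J U (ModuleCat.of Λ M)) hg z
    rw [θ_natural] at hz
    obtain ⟨w, hw⟩ := Γm_exact J U (lTensor_exact M hex hg) _ hz
    obtain ⟨w', rfl⟩ := (θ_bijective_free J U M m).2 w
    rw [← θ_natural] at hw
    rw [← (θ_bijective_free J U M n).1 hw]
    exact (lTensor_exact (Γc J U (ModuleCat.of Λ M)) hex hg).apply_apply_eq_zero w'
  · obtain ⟨y', rfl⟩ := Γm_surjective J U _ hg' y
    obtain ⟨z', rfl⟩ := (θ_bijective_free J U M n).2 y'
    exact ⟨g.lTensor _ z', θ_natural J U M g z'⟩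

end comparison

end Groth.Agent.ConstShMod
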